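import Groth.Agent.EGA43.Chevalley.Main
import Groth.Agent.FlatMorWeight.UnibranchOpen
import Groth.Agent.FEtFF.NormalGeomUnibranch
import Groth.Agent.EGA43.Unibranch.Criterion
import Groth.Agent.Desc19b.NormalSmooth

/-!
# Chevalley's criterion over a normal base which need not be Noetherian
-/

set_option autoImplicit false
set_option backward.isDefEq.respectTransparency false
set_option linter.style.haveILetI false

universe u

open CategoryTheory CategoryTheory.Limits AlgebraicGeometry TopologicalSpace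

namespace Groth.Agent.EGA43.FiniteCrit

open Groth.Agent FlatMorWeight

theorem isIntegrallyClosed_mvPolynomial (O : Type u) [CommRing O] [IsDomain O] [IsIntegrallyClosed O]
    (n : ℕ) : IsIntegrallyClosed (MvPolynomial (ULift.{u} (Fin n)) O) :=
  haveI := Desc19b.isIntegrallyClosed_mvPolynomial_fin' O n
  IsIntegrallyClosed.of_equiv (MvPolynomial.renameEquiv O Equiv.ulift.symm).toRingEquiv

theorem isGeomUnibranch_stalk_spec (P : CommRingCat.{u}) [IsDomain P] [IsIntegrallyClosed P]
    (a : Spec P) : CAlg2.IsGeomUnibranch ((Spec P).presheaf.stalk a) := by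
  let L := Localization.AtPrime a.asIdeal
  have hle : a.asIdeal.primeCompl ≤ nonZeroDivisors P := Ideal.primeCompl_le_nonZeroDivisors a.asIdeal
  haveI : IsDomain L := IsLocalization.isDomain_localization hle
  haveI : IsIntegrallyClosed L := isIntegrallyClosed_of_isLocalization L a.asIdeal.primeCompl hle
  exact EGA43.Unibranch.isGeomUnibranch_of_ringEquiv
    (StructureSheaf.stalkIso P a).toRingEquiv
    (FEtFF.isGeomUnibranch_of_normal L)

open MvPolynomial in
set_option backward.isDefEq.respectTransparency.types false in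
theorem flat_affineSpace_over (σ : Type u) (S : Scheme.{u}) : Flat (𝔸(σ; S) ↘ S) :=
  MorphismProperty.pullback_fst _ _ <| by
  have := isIso_of_isTerminal AlgebraicGeometry.specULiftZIsTerminal.{u} terminalIsTerminal (terminal.from _)
  rw [← terminal.comp_from (Spec.map (CommRingCat.ofHom (C (σ := σ) (R := ULift.{u} ℤ)))),
    MorphismProperty.cancel_right_of_respectsIso (P := @Flat),
    HasRingHomProperty.Spec_iff (P := @Flat)]
  show RingHom.Flat (C (σ := σ) (R := ULift.{u} ℤ))
  rw [← MvPolynomial.algebraMap_eq, RingHom.flat_algebraMap_iff]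
  infer_instance

/-- Generisations lift in every base change at the points over `p`, for a branch through `p`
dominating a normal base whose fibre through `p` is no bigger than its generic fibre. -/
theorem exists_generization_pullback_of_normal {O : Type u} [CommRing O] [IsDomain O]
    [IsIntegrallyClosed O] {X : Scheme.{u}} (s : X ⟶ Spec (CommRingCat.of O)) [LocallyOfFiniteType s]
    {ζ p : X} (hζ : ζ ⤳ p) (hη : IsMaximalPt (s ζ))
    (hd : ∀ x', ζ ⤳ x' → x' ⤳ p → s x' = s p →
      DimLib.trdegHom (s.residueFieldMap x').hom ≤ DimLib.trdegHom (s.residueFieldMap ζ).hom)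
    {W' : Scheme.{u}} (g : W' ⟶ Spec (CommRingCat.of O)) (z : ↥(pullback s g))
    (hz : pullback.fst s g z = p) {v : W'} (hv : v ⤳ pullback.snd s g z) :
    ∃ z', z' ⤳ z ∧ pullback.snd s g z' = v := by
  let Y := Spec (CommRingCat.of O)
  let V : Y.Opens := ⊤
  have hV : IsAffineOpen V := isAffineOpen_top _
  obtain ⟨U, hU, hpU, e'⟩ := exists_isAffineOpen_mem_and_subset (x := p) (U := s ⁻¹ᵁ V) (Set.mem_univ _)
  have e : U ≤ s ⁻¹ᵁ V := e'
  have hζU : ζ ∈ U := hζ.mem_open U.isOpen hpU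
  let eA : O ≃+* Γ(Y, V) := (Scheme.ΓSpecIso (CommRingCat.of O)).symm.commRingCatIsoToRingEquiv
  haveI : IsDomain Γ(Y, V) := eA.symm.injective.isDomain eA.symm.toRingHom
  haveI : IsIntegrallyClosed Γ(Y, V) := IsIntegrallyClosed.of_equiv eA
  algebraize [(s.appLE V U e).hom]
  haveI : Algebra.FiniteType Γ(Y, V) Γ(X, U) := s.finiteType_appLE hV hU e
  have hc : ∀ w (hw : w ∈ U), (hU.primeIdealOf ⟨w, hw⟩).asIdeal.comap (algebraMap Γ(Y, V) Γ(X, U)) =
      (hV.primeIdealOf ⟨s w, e hw⟩).asIdeal := fun w hw =>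
    EGA43.FibDepth.comap_primeIdealOf s hV hU e hw
  obtain ⟨n, B, _, _, φ, ψ, hcomp, hft, hqf, hmin, q₀, hq₀⟩ := Chevalley.exists_chart
    (hU.primeIdealOf ⟨ζ, hζU⟩) (hU.primeIdealOf ⟨p, hpU⟩)
    ((primeIdealOf_le_iff hU _ _).2 hζ)
    (by rw [hc ζ hζU]; exact mem_minimalPrimes_primeIdealOf hV _ hη) fun q' h1 h2 h3 => by
      have hw : hU.fromSpec q' ∈ U := hU.range_fromSpec.le ⟨q', rfl⟩
      have hq : hU.primeIdealOf ⟨_, hw⟩ = q' :=
        hU.fromSpec.isOpenEmbedding.injective (hU.fromSpec_primeIdealOf ⟨_, hw⟩)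
      rw [← hq, ← EGA43.FibDepth.trdegHom_residueFieldMap s hV hU e hw,
        ← EGA43.FibDepth.trdegHom_residueFieldMap s hV hU e hζU]
      rw [← hq] at h1 h2 h3
      refine hd _ ((primeIdealOf_le_iff hU _ _).1 h1) ((primeIdealOf_le_iff hU _ _).1 h2) ?_
      rw [hc _ hw, hc p hpU] at h3
      have h4 := congrArg hV.fromSpec (PrimeSpectrum.ext h3)
      rwa [hV.fromSpec_primeIdealOf, hV.fromSpec_primeIdealOf] at h4
  let P := CommRingCat.of (MvPolynomial (ULift.{u} (Fin n)) Γ(Y, V))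
  haveI : IsDomain P := inferInstanceAs (IsDomain (MvPolynomial (ULift.{u} (Fin n)) Γ(Y, V)))
  haveI : IsIntegrallyClosed P := isIntegrallyClosed_mvPolynomial Γ(Y, V) n
  haveI : IsOpenImmersion (AffineSpace.map (ULift.{u} (Fin n)) hV.fromSpec) :=
    MorphismProperty.of_isPullback (AffineSpace.isPullback_map hV.fromSpec).flip inferInstance
  let j : Spec P ⟶ 𝔸(ULift.{u} (Fin n); Y) :=
    (AffineSpace.SpecIso (ULift.{u} (Fin n)) Γ(Y, V)).inv ≫ AffineSpace.map _ hV.fromSpec
  have hsurj : Function.Surjective j := by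
    have h1 : Surjective (AffineSpace.map (ULift.{u} (Fin n)) hV.fromSpec) := by
      haveI : Surjective hV.fromSpec :=
        ⟨Set.range_eq_univ.1 (by rw [hV.range_fromSpec]; rfl)⟩
      exact MorphismProperty.of_isPullback (AffineSpace.isPullback_map hV.fromSpec).flip inferInstance
    exact (inferInstance : Surjective j).surj
  have hun : ∀ a : ↥𝔸(ULift.{u} (Fin n); Y),
      CAlg2.IsGeomUnibranch ((𝔸(ULift.{u} (Fin n); Y)).presheaf.stalk a) := by
    intro a
    obtain ⟨a, rfl⟩ := hsurj a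
    exact EGA43.Unibranch.isGeomUnibranch_of_ringEquiv (asIso (j.stalkMap a)).symm.commRingCatIsoToRingEquiv
      (isGeomUnibranch_stalk_spec P a)
  haveI : LocallyQuasiFinite (Spec.map (CommRingCat.ofHom ψ : P ⟶ .of B)) :=
    (HasRingHomProperty.Spec_iff (P := @LocallyQuasiFinite)).2 hqf
  haveI : LocallyOfFiniteType (Spec.map (CommRingCat.ofHom ψ : P ⟶ .of B)) :=
    (HasRingHomProperty.Spec_iff (P := @LocallyOfFiniteType)).2 hft
  let g₀ : Spec (.of B) ⟶ 𝔸(ULift.{u} (Fin n); Y) := Spec.map (CommRingCat.ofHom ψ : P ⟶ .of B) ≫ j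
  let h : Spec (.of B) ⟶ X := Spec.map (CommRingCat.ofHom φ) ≫ hU.fromSpec
  have hfac : g₀ ≫ (𝔸(ULift.{u} (Fin n); Y) ↘ Y) = h ≫ s := by
    simp only [g₀, h, j, Category.assoc, AffineSpace.map_over, AffineSpace.SpecIso_inv_over_assoc]
    rw [← IsAffineOpen.SpecMap_appLE_fromSpec s hV hU e, ← Category.assoc, ← Category.assoc,
      ← Spec.map_comp, ← Spec.map_comp]
    congr 2
    exact CommRingCat.hom_ext hcomp
  have hq : h q₀ = p := by
    show hU.fromSpec (PrimeSpectrum.comap φ q₀) = p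
    rw [hq₀, hU.fromSpec_primeIdealOf]
  have hdom : ∀ b, IsMaximalPt b → IsMaximalPt (g₀ b) := by
    intro b hb
    have hb0 : (⟨⊥, Ideal.isPrime_bot⟩ : PrimeSpectrum B) = b :=
      hb _ ((PrimeSpectrum.le_iff_specializes (⟨⊥, Ideal.isPrime_bot⟩ : PrimeSpectrum B) b).1
        (bot_le : (⊥ : Ideal B) ≤ b.asIdeal))
    rw [← hb0]
    refine Chevalley.isMaximalPt_of_isOpenImmersion j _ ?_
    show (⊥ : Ideal B).comap ψ ∈ _
    rwa [← RingHom.ker_eq_comap_bot]
  -- the base change of the chart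
  let m : pullback h (pullback.fst s g) ⟶ W' :=
    pullback.snd h (pullback.fst s g) ≫ pullback.snd s g
  have sq : IsPullback (pullback.fst h (pullback.fst s g)) m (g₀ ≫ (𝔸(ULift.{u} (Fin n); Y) ↘ Y)) g := by
    rw [hfac]
    exact (IsPullback.of_hasPullback h (pullback.fst s g)).paste_vert (IsPullback.of_hasPullback s g)
  let A' := pullback (𝔸(ULift.{u} (Fin n); Y) ↘ Y) g
  let t : pullback h (pullback.fst s g) ⟶ A' :=
    pullback.lift (pullback.fst h (pullback.fst s g) ≫ g₀) m (by rw [Category.assoc]; exact sq.w)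
  have sq' : IsPullback (pullback.fst h (pullback.fst s g)) t g₀ (pullback.fst _ g) :=
    IsPullback.of_bot (by rw [pullback.lift_snd]; exact sq) (pullback.lift_fst _ _ _).symm
      (IsPullback.of_hasPullback _ g)
  have ht : GeneralizingMap t :=
    generalizingMap_baseChange g₀ hun hdom _ _ t sq'
  obtain ⟨a, ha₁, ha₂⟩ := Scheme.Pullback.exists_preimage_pullback (f := h) (g := pullback.fst s g)
    q₀ z (hq.trans hz.symm)
  haveI := flat_affineSpace_over (ULift.{u} (Fin n)) Y
  haveI : Flat (pullback.snd (𝔸(ULift.{u} (Fin n); Y) ↘ Y) g) := inferInstance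
  have hta : pullback.snd (𝔸(ULift.{u} (Fin n); Y) ↘ Y) g (t a) = pullback.snd s g z := by
    rw [← Scheme.Hom.comp_apply, pullback.lift_snd, Scheme.Hom.comp_apply, ha₂]
  obtain ⟨v₁, hv₁, rfl⟩ := Flat.generalizingMap (pullback.snd (𝔸(ULift.{u} (Fin n); Y) ↘ Y) g)
    (hta.symm ▸ hv)
  obtain ⟨a', ha', rfl⟩ := ht hv₁
  refine ⟨pullback.snd h (pullback.fst s g) a', ha₂ ▸ ha'.map (pullback.snd h (pullback.fst s g)).continuous, ?_⟩
  rw [← Scheme.Hom.comp_apply, ← Scheme.Hom.comp_apply, pullback.lift_snd]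

end Groth.Agent.EGA43.FiniteCrit
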