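import Groth.Agent.EGA43.FiniteCrit.Limit
import Groth.Agent.EGA43.FiniteCrit.NormalBase
import Groth.Agent.EGA43.UnivOpen.Dvr
import Groth.Agent.EGA43.Chevalley.Specialize
import Groth.Agent.EGA43.Chevalley.Open
import Groth.Agent.LocImm12.ZMT
import Mathlib.FieldTheory.IsAlgClosed.AlgebraicClosure

/-!
# EGA IV 14.4.1: universal openness is tested by finite base changes
-/

set_option autoImplicit false
set_option backward.isDefEq.respectTransparency false
set_option linter.style.haveILetI false

universe u

open CategoryTheory CategoryTheory.Limits AlgebraicGeometry TopologicalSpace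

namespace Groth.Agent.EGA43.FiniteCrit

open Groth.Agent

theorem isIntegrallyClosed_integralClosure (A L : Type u) [CommRing A] [Field L] [Algebra A L] :
    IsIntegrallyClosed (integralClosure A L) := by
  let O := integralClosure A L
  refine (isIntegrallyClosed_iff (FractionRing O)).2 fun {x} hx => ?_
  let ψ : FractionRing O →ₐ[O] L :=
    IsFractionRing.liftAlgHom (g := Algebra.ofId O L) Subtype.val_injective
  have h2 : IsIntegral A (ψ x) := isIntegral_trans (ψ x) (hx.map ψ)
  exact ⟨⟨ψ x, h2⟩, ψ.toRingHom.injective (ψ.commutes _)⟩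

theorem isUnivOpenAt_affine {A R : Type u} [CommRing A] [CommRing R] [Algebra A R] [IsNoetherianRing A]
    [Algebra.FiniteType A R] (x : ↥(Spec (CommRingCat.of R)))
    (hmax : ∀ w, w ⤳ x → str A R w = str A R x → w = x)
    (H : ∀ (Y' : Scheme.{u}) (g : Y' ⟶ Spec (CommRingCat.of A)) [IsFinite g]
      (x' : ↥(pullback (str A R) g)), pullback.fst (str A R) g x' = x →
        EGA43.IsOpenAt (pullback.snd (str A R) g).base x') :
    EGA43.IsUnivOpenAt (str A R) x := by
  haveI : LocallyOfFiniteType (str A R) := (HasRingHomProperty.Spec_iff (P := @LocallyOfFiniteType)).2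
    (RingHom.finiteType_algebraMap.2 ‹_›)
  refine UnivOpen.isUnivOpenAt_of_lifting (str A R) x fun n z hz v hv => ?_
  let t := AffineSpace (ULift.{u} (Fin n)) (Spec (CommRingCat.of A)) ↘ Spec (CommRingCat.of A)
  let P₁ : PrimeSpectrum A := t v
  let L := AlgebraicClosure P₁.asIdeal.ResidueField
  let O := integralClosure A L
  haveI : IsIntegrallyClosed O := isIntegrallyClosed_integralClosure A L
  haveI : Algebra.IsIntegral A O := inferInstance
  let s := str A R
  let wO := str A O
  haveI : IsIntegralHom wO := IsIntegralHom.SpecMap_iff.2 (algebraMap_isIntegral_iff.2 ‹_›)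
  let η := genericPoint (Spec (CommRingCat.of O))
  have hη : wO η = t v := by
    rw [show η = (⟨⊥, Ideal.isPrime_bot⟩ : PrimeSpectrum O) from
      genericPoint_eq_bot_of_affine (CommRingCat.of O)]
    apply PrimeSpectrum.ext
    show (⊥ : Ideal O).comap (algebraMap A O) = P₁.asIdeal
    ext a
    rw [Ideal.mem_comap, Ideal.mem_bot, ← Subtype.val_injective.eq_iff,
      ← Ideal.algebraMap_residueField_eq_zero (I := P₁.asIdeal),
      ← map_eq_zero_iff (algebraMap P₁.asIdeal.ResidueField L) (RingHom.injective _),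
      ← IsScalarTower.algebraMap_apply A P₁.asIdeal.ResidueField L]
    rfl
  let c := pullback.fst t wO
  let g := pullback.snd t wO
  obtain ⟨v', hv'1, hv'2⟩ := Scheme.Pullback.exists_preimage_pullback (f := t) (g := wO) v η hη.symm
  obtain ⟨a, hva, hca⟩ := c.isClosedMap.specializingMap (a := v') (b := pullback.snd s t z)
    (show c v' ⤳ pullback.snd s t z by rw [hv'1]; exact hv)
  obtain ⟨q, hq1, hq2⟩ := Scheme.Pullback.exists_preimage_pullback (f := pullback.snd s t) (g := c)
    z a hca.symm
  let sO := pullback.snd s wO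
  let ψ : pullback (pullback.snd s t) c ⟶ pullback sO g :=
    pullback.lift (pullback.lift (pullback.fst _ _ ≫ pullback.fst s t) (pullback.snd _ _ ≫ g)
      (by rw [Category.assoc, pullback.condition, ← Category.assoc, pullback.condition, Category.assoc,
        pullback.condition, Category.assoc]))
      (pullback.snd _ _) (by rw [pullback.lift_snd])
  let θ : pullback sO g ⟶ pullback s t :=
    pullback.lift (pullback.fst _ _ ≫ pullback.fst s wO) (pullback.snd _ _ ≫ c)
      (by rw [Category.assoc, pullback.condition, ← Category.assoc, pullback.condition, Category.assoc,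
        ← pullback.condition, Category.assoc])
  have hψθ : ψ ≫ θ = pullback.fst _ _ := by
    apply pullback.hom_ext
    · rw [Category.assoc, pullback.lift_fst, pullback.lift_fst_assoc, pullback.lift_fst]
    · rw [Category.assoc, pullback.lift_snd, pullback.lift_snd_assoc, pullback.condition]
  have hθ : θ (ψ q) = z := by rw [← Scheme.Hom.comp_apply, hψθ, hq1]
  have hsnd : pullback.snd sO g (ψ q) = a := by rw [← Scheme.Hom.comp_apply, pullback.lift_snd, hq2]
  let p := pullback.fst sO g (ψ q)
  have hp : pullback.fst s wO p = x := by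
    rw [← hz, ← hθ]
    show _ = pullback.fst s t (θ (ψ q))
    rw [← Scheme.Hom.comp_apply θ, pullback.lift_fst, Scheme.Hom.comp_apply]
  obtain ⟨hpmax, ζ, hζ, hζη, hd⟩ := exists_branch x hmax H O p hp
  haveI : LocallyOfFiniteType sO := inferInstance
  obtain ⟨z', hz', hz'v⟩ := exists_generization_pullback_of_normal sO hζ
    (fun w hw => by rw [hζη] at hw ⊢; exact (hw.antisymm (genericPoint_specializes w)).eq)
    (fun x' _ hx' he => by rw [hpmax x' hx' he]; exact hd) g (ψ q) rfl
    (v := v') (by rw [hsnd]; exact hva)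
  refine ⟨θ z', hθ ▸ hz'.map θ.continuous, ?_⟩
  show pullback.snd s t (θ z') = v
  rw [← Scheme.Hom.comp_apply, pullback.lift_snd, Scheme.Hom.comp_apply, hz'v, hv'1]

/-- EGA IV 14.4.1: at a maximal point of its fibre, a morphism is universally open once its finite
base changes are open over the point. -/
theorem isUnivOpenAt_of_finite {X Y : Scheme.{u}} [IsNoetherian Y] (f : X ⟶ Y) [LocallyOfFiniteType f]
    (x : X) (hmax : ∀ w, w ⤳ x → f w = f x → w = x)
    (H : ∀ (Y' : Scheme.{u}) (g : Y' ⟶ Y) [IsFinite g] (x' : ↥(pullback f g)),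
      pullback.fst f g x' = x → EGA43.IsOpenAt (pullback.snd f g).base x') :
    EGA43.IsUnivOpenAt f x := by
  obtain ⟨V, hV, hxV, -⟩ := exists_isAffineOpen_mem_and_subset (x := f x) (U := ⊤) (Set.mem_univ _)
  obtain ⟨U, hU, hxU, e'⟩ := exists_isAffineOpen_mem_and_subset (x := x) (U := f ⁻¹ᵁ V) hxV
  have e : U ≤ f ⁻¹ᵁ V := e'
  algebraize [(f.appLE V U e).hom]
  haveI : Algebra.FiniteType Γ(Y, V) Γ(X, U) := f.finiteType_appLE hV hU e
  haveI : IsNoetherianRing Γ(Y, V) := IsLocallyNoetherian.component_noetherian ⟨V, hV⟩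
  let s := str Γ(Y, V) Γ(X, U)
  let i := hV.fromSpec
  let h := hU.fromSpec
  have hfac : s ≫ i = h ≫ f := IsAffineOpen.SpecMap_appLE_fromSpec f hV hU e
  let x₀ := hU.primeIdealOf ⟨x, hxU⟩
  have hx₀ : h x₀ = x := hU.fromSpec_primeIdealOf ⟨x, hxU⟩
  suffices hs : EGA43.IsUnivOpenAt s x₀ by
    have h1 : EGA43.IsUnivOpenAt (s ≫ i) x₀ := isUnivOpenAt_comp hs fun Y' g' x' _ N hN =>
      (pullback.snd i g').isOpenEmbedding.isOpenMap.image_mem_nhds hN
    rw [hfac] at h1
    exact hx₀ ▸ Chevalley.isUnivOpenAt_of_comp h f x₀ h1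
  refine isUnivOpenAt_affine x₀ (fun w hw he => h.isOpenEmbedding.injective ?_) fun W g _ x' hx' => ?_
  · rw [hx₀]
    refine hmax _ (hx₀ ▸ hw.map h.continuous) ?_
    rw [← hx₀, ← Scheme.Hom.comp_apply, ← Scheme.Hom.comp_apply, ← hfac, Scheme.Hom.comp_apply,
      Scheme.Hom.comp_apply]
    exact congrArg i he
  -- extend the finite morphism over the open to a finite morphism over the whole base
  haveI : QuasiCompact i := inferInstance
  obtain ⟨T, j, π, _, _, _, hj⟩ := LocImm12.exists_openImmersion_finite (g ≫ i)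
  let Θ : pullback s g ⟶ pullback f π := pullback.map s g f π h j i hfac hj.symm
  haveI : IsOpenImmersion Θ := inferInstance
  have hfst : pullback.fst f π (Θ x') = x := by
    rw [← Scheme.Hom.comp_apply, pullback.lift_fst, Scheme.Hom.comp_apply]; exact (congrArg h hx').trans hx₀
  intro N hN
  have h2 := H T π (Θ x') hfst _ (Θ.isOpenEmbedding.isOpenMap.image_mem_nhds hN)
  have hsnd : ∀ a, pullback.snd f π (Θ a) = j (pullback.snd s g a) := fun a => by
    rw [← Scheme.Hom.comp_apply, pullback.lift_snd, Scheme.Hom.comp_apply]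
  have himg : (pullback.snd f π).base '' (Θ.base '' N) = j.base '' ((pullback.snd s g).base '' N) := by
    rw [Set.image_image, Set.image_image]
    exact Set.image_congr fun a _ => hsnd a
  rw [himg] at h2
  change _ ∈ nhds (pullback.snd f π (Θ x')) at h2
  rw [hsnd, ← j.isOpenEmbedding.map_nhds_eq, Filter.mem_map] at h2
  rwa [Set.preimage_image_eq _ j.isOpenEmbedding.injective] at h2

/-- EGA IV 14.4.2: universal openness is tested by finite base changes. -/
theorem universallyOpen_of_finite {X Y : Scheme.{u}} [IsNoetherian Y] (f : X ⟶ Y) [LocallyOfFiniteType f]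
    (H : ∀ (Y' : Scheme.{u}) (g : Y' ⟶ Y) [IsFinite g], IsOpenMap (pullback.snd f g).base) :
    UniversallyOpen f := by
  refine Chevalley.universallyOpen_of_forall f fun x => ?_
  obtain ⟨z, hz, hzf, hzmax⟩ := Chevalley.exists_maximal_in_fibre f x
  exact Chevalley.isUnivOpenAt_of_specializes f hz hzf
    (isUnivOpenAt_of_finite f z (fun w hw he => hzmax w hw (he.trans hzf))
      fun Y' g _ x' _ N hN => (H Y' g).image_mem_nhds hN)

end Groth.Agent.EGA43.FiniteCrit
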