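import Groth.Agent.CAlgFlatExt.Main
import Groth.Agent.CAlgMisc2.DVRCrit
import Groth.Agent.CommAlg6.CompletionEquidim
import Mathlib.RingTheory.AdicCompletion.LocalRing
import Mathlib.FieldTheory.IsAlgClosed.AlgebraicClosure

/-!
# Complete discrete valuation rings with algebraically closed residue field over a given one
-/

set_option autoImplicit false
set_option linter.style.haveILetI false

universe u

namespace Groth.Agent.EGA43.FiniteCrit

open IsLocalRing

theorem isDVR_of_flat_local {A L : Type u} [CommRing A] [IsDomain A] [IsDiscreteValuationRing A]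
    [CommRing L] [IsLocalRing L] [IsNoetherianRing L] (φ : A →+* L) (hflat : φ.Flat)
    (hmax : (maximalIdeal A).map φ = maximalIdeal L) :
    ∃ _ : IsDomain L, IsDiscreteValuationRing L := by
  obtain ⟨t, ht⟩ := IsDiscreteValuationRing.exists_irreducible A
  have htm := ht.maximalIdeal_eq
  rw [htm, Ideal.map_span, Set.image_singleton] at hmax
  algebraize [φ]
  have hreg : IsSMulRegular L t :=
    (IsSMulRegular.of_ne_zero (M := A) ht.ne_zero).of_flat
  refine CAlgMisc2.dvr_iff.2 ⟨?_, ?_⟩
  · rw [← hmax]
    exact (Submodule.spanFinrank_span_le_ncard_of_finite (Set.finite_singleton _)).trans (by simp)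
  · refine le_antisymm ((ringKrullDim_le_spanFinrank_maximalIdeal L).trans ?_) ?_
    · rw [← hmax]
      exact_mod_cast (Submodule.spanFinrank_span_le_ncard_of_finite (Set.finite_singleton (φ t))).trans
        (by simp)
    · by_contra h
      have h0 : Ring.KrullDimLE 0 L := by
        rw [Ring.krullDimLE_iff]
        induction hd : ringKrullDim L using WithBot.recBotCoe with
        | bot => exact bot_le
        | coe d =>
          rw [hd] at h
          have h' : d < 1 := WithBot.coe_lt_coe.1 (not_le.1 h)
          exact WithBot.coe_le_coe.2 (Order.lt_one_iff.1 h').le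
      have hnil : IsNilpotent (φ t) := by
        rw [nilpotent_iff_mem_prime]
        intro P hP
        rw [IsLocalRing.eq_maximalIdeal (Ideal.isMaximal_of_isPrime P), ← hmax]
        exact Ideal.mem_span_singleton_self _
      obtain ⟨n, hn⟩ := hnil
      have hregn : IsSMulRegular L (t ^ n) := hreg.pow n
      have : (t ^ n) • (1 : L) = (t ^ n) • (0 : L) := by
        rw [Algebra.smul_def, RingHom.algebraMap_toAlgebra, map_pow, hn, zero_mul, smul_zero]
      exact one_ne_zero (hregn this)

/-- Over a discrete valuation ring and a point of its residue field there is a complete one with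
algebraically closed residue field. -/
theorem exists_completeDvr {A k : Type u} [CommRing A] [IsDomain A] [IsDiscreteValuationRing A]
    [Field k] (g : A →+* k) (hker : RingHom.ker g = maximalIdeal A) :
    ∃ (C : Type u) (_ : CommRing C) (_ : IsDomain C) (_ : IsDiscreteValuationRing C)
      (_ : IsAdicComplete (maximalIdeal C) C) (_ : IsAlgClosed (ResidueField C)) (φ : A →+* C)
      (ι : k →+* ResidueField C), IsLocalHom φ ∧ Function.Injective φ ∧ (residue C).comp φ = ι.comp g := by
  let K := AlgebraicClosure k
  let j : k →+* K := algebraMap k K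
  obtain ⟨L, hsurj, hnoe⟩ := CAlgFlatExt.exists_lift (A := A) (g := j.comp g)
    (by rw [RingHom.ker_comp_of_injective _ j.injective, hker])
  haveI := hnoe inferInstance
  obtain ⟨hLd, hLv⟩ := isDVR_of_flat_local L.φ L.flat L.map_maximalIdeal
  let C := AdicCompletion (maximalIdeal L.carrier) L.carrier
  haveI : IsNoetherianRing C := Matlis6.isNoetherianRing_adicCompletion _
  obtain ⟨hCd, hCv⟩ : ∃ _ : IsDomain C, IsDiscreteValuationRing C := by
    rw [CAlgMisc2.dvr_iff, AdicCompletion.spanFinrank_maximalIdeal_eq,
      CommAlg6.ringKrullDim_completion, ← CAlgMisc2.dvr_iff]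
    exact ⟨hLd, hLv⟩
  let ev : C →+* L.carrier ⧸ maximalIdeal L.carrier :=
    (AdicCompletion.evalOneₐ (maximalIdeal L.carrier)).toRingHom
  let ψ' : L.carrier ⧸ maximalIdeal L.carrier →+* K :=
    Ideal.Quotient.lift _ L.ψ fun a ha => RingHom.mem_ker.1 (L.ker_ψ.symm ▸ ha)
  have hψ' : Function.Bijective ψ' :=
    ⟨Ideal.injective_lift_iff _ |>.2 L.ker_ψ, Ideal.Quotient.lift_surjective_of_surjective _ _ hsurj⟩
  let π : C →+* K := ψ'.comp ev
  have hπ : Function.Surjective π := hψ'.2.comp (AdicCompletion.evalOneₐ_surjective _)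
  have hkerπ : RingHom.ker π = maximalIdeal C := by
    rw [RingHom.ker_comp_of_injective _ hψ'.1]
    exact (AdicCompletion.ker_evalOneₐ_eq_map _ (maximalIdeal L.carrier).fg_of_isNoetherianRing).trans
      AdicCompletion.maximalIdeal_eq_map.symm
  let e : ResidueField C ≃+* K :=
    (Ideal.quotEquivOfEq hkerπ.symm).trans (RingHom.quotientKerEquivOfSurjective hπ)
  haveI : IsAlgClosed (ResidueField C) := IsAlgClosed.of_ringEquiv K (ResidueField C) e.symm
  haveI := L.isLocalHom
  refine ⟨C, inferInstance, hCd, hCv, AdicCompletion.isAdicComplete_of_fg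
    (maximalIdeal L.carrier).fg_of_isNoetherianRing, inferInstance,
    (algebraMap L.carrier C).comp L.φ, e.symm.toRingHom.comp j, RingHom.isLocalHom_comp _ _, ?_, ?_⟩
  · rw [RingHom.injective_iff_ker_eq_bot]
    by_contra hk
    haveI := (RingHom.ker_isPrime ((algebraMap L.carrier C).comp L.φ)).isMaximal hk
    apply IsDiscreteValuationRing.not_a_field C
    have h1 : (maximalIdeal A).map ((algebraMap L.carrier C).comp L.φ) = maximalIdeal C := by
      rw [← Ideal.map_map, L.map_maximalIdeal, AdicCompletion.maximalIdeal_eq_map]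
    rw [← h1, ← IsLocalRing.eq_maximalIdeal (I := RingHom.ker ((algebraMap L.carrier C).comp L.φ)) inferInstance]
    exact (Ideal.map_eq_bot_iff_le_ker _).2 le_rfl
  refine RingHom.ext fun a => e.injective ?_
  rw [RingHom.comp_apply, RingHom.comp_apply, RingHom.comp_apply]
  show π (algebraMap L.carrier C (L.φ a)) = e (e.symm (j (g a)))
  rw [e.apply_symm_apply]
  show ψ' (ev (algebraMap L.carrier C (L.φ a))) = _
  rw [show ev (algebraMap L.carrier C (L.φ a)) = Ideal.Quotient.mk _ (L.φ a) from
    RingHom.congr_fun (AdicCompletion.evalOneₐ_comp_algebraMap_eq_mk (maximalIdeal L.carrier)) (L.φ a)]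
  exact RingHom.congr_fun L.comp a

end Groth.Agent.EGA43.FiniteCrit
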