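import Groth.Agent.EGA43.FiniteCrit.DvrPoint
import Groth.Agent.EGA43.Chevalley.Section
import Groth.Agent.EGA43.DimFormula.ValFibre
import Groth.Agent.EGA43.UnivOpen.DvrComponents

/-!
# EGA IV 14.4.9: universal openness by lifting points after finite extensions of DVRs
-/

set_option autoImplicit false
set_option backward.isDefEq.respectTransparency false
set_option linter.style.haveILetI false

universe u

open CategoryTheory CategoryTheory.Limits AlgebraicGeometry TopologicalSpace IsLocalRing

namespace Groth.Agent.EGA43.FiniteCrit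

open Groth.Agent

theorem exists_desc {F : Type u} [Field F] {X : Scheme.{u}} (a : Spec (CommRingCat.of F) ⟶ X) (q : X)
    (h : a (closedPoint F) = q) :
    ∃ γ : X.residueField q ⟶ CommRingCat.of F, a = Spec.map γ ≫ X.fromSpecResidueField q := by
  subst h
  exact ⟨_, (Scheme.descResidueField_stalkClosedPointTo_fromSpecResidueField F X a).symm⟩

/-- Through a point with residue field that of the base, lifting of the generic point gives points
with values in finite extensions. -/
theorem exists_dvr_lift {A : Type u} [CommRing A] [IsDomain A] [IsDiscreteValuationRing A]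
    [IsAdicComplete (maximalIdeal A) A] {X : Scheme.{u}} (s : X ⟶ Spec (CommRingCat.of A))
    [LocallyOfFiniteType s] (u₁ : Spec (CommRingCat.of (ResidueField A)) ⟶ X)
    (hu : u₁ ≫ s = Spec.map (CommRingCat.ofHom (residue A))) {ξ : X}
    (hξ : ξ ⤳ u₁ (closedPoint (ResidueField A)))
    (hη : s ξ = genericPoint (Spec (CommRingCat.of A))) :
    ∃ (B : CommRingCat.{u}) (_ : IsDomain B) (_ : IsDiscreteValuationRing B) (φ : A →+* B)
      (_ : IsLocalHom φ) (v : Spec B ⟶ X),
      φ.Finite ∧ v ≫ s = Spec.map (CommRingCat.ofHom φ) ∧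
      Spec.map (CommRingCat.ofHom (IsLocalRing.ResidueField.map φ)) ≫ u₁ =
        Spec.map (CommRingCat.ofHom (IsLocalRing.residue B)) ≫ v := by
  let q := u₁ (closedPoint (ResidueField A))
  obtain ⟨γ, hγ⟩ := exists_desc u₁ q rfl
  -- the residue field of `q` is generated by the base
  let α : CommRingCat.of A ⟶ X.residueField q := Spec.preimage (X.fromSpecResidueField q ≫ s)
  have hαm : Spec.map α = X.fromSpecResidueField q ≫ s := Spec.map_preimage _
  have hαγ : α ≫ γ = CommRingCat.ofHom (residue A) := Spec.map_injective (by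
    rw [Spec.map_comp, hαm, ← Category.assoc, ← hγ, hu])
  have hα : Function.Surjective α.hom := fun z => by
    obtain ⟨a, ha⟩ := IsLocalRing.residue_surjective (γ.hom z)
    exact ⟨a, γ.hom.injective
      ((RingHom.congr_fun (congrArg CommRingCat.Hom.hom hαγ) a).trans ha)⟩
  have hqc : s q = closedPoint A := by
    have h1 : (u₁ ≫ s) (closedPoint (ResidueField A)) = closedPoint A := by
      rw [hu]
      exact IsLocalRing.comap_closedPoint (residue A)
    rwa [Scheme.Hom.comp_apply] at h1
  have hqcl : ∀ x', s x' = s q → q ⤳ x' → x' = q := by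
    haveI : LocallyOfFiniteType (s.fiberToSpecResidueField (s q)) :=
      inferInstanceAs (LocallyOfFiniteType (Limits.pullback.snd s (Scheme.fromSpecResidueField _ (s q))))
    have htr : DimLib.trdegHom (s.residueFieldMap q).hom = 0 := by
      have hfac : (Spec.preimage ((Spec (CommRingCat.of A)).fromSpecResidueField (s q)) :
          CommRingCat.of A ⟶ _) ≫ s.residueFieldMap q = α := Spec.map_injective (by
        rw [Spec.map_comp, Spec.map_preimage, hαm, s.SpecMap_residueFieldMap_fromSpecResidueField])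
      have hs : Function.Surjective (s.residueFieldMap q).hom := fun z => by
        obtain ⟨a, rfl⟩ := hα z
        exact ⟨_, (RingHom.congr_fun (congrArg CommRingCat.Hom.hom hfac) a : _)⟩
      let _ := (s.residueFieldMap q).hom.toAlgebra
      haveI : Algebra.IsAlgebraic ((Spec (CommRingCat.of A)).residueField (s q)) (X.residueField q) :=
        ⟨fun z => by obtain ⟨c, rfl⟩ := hs z; exact isAlgebraic_algebraMap c⟩
      show Cardinal.toNat (Algebra.trdeg _ _) = 0
      rw [trdeg_eq_zero_iff.2 inferInstance]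
      simp
    rw [← s.fiberι_asFiber q, ← EGA43.FibDepth.ptDim_fiber s] at htr
    have hcl := (DimLib.ptDim_eq_zero_iff (k := (Spec (CommRingCat.of A)).residueField (s q))
      (s.fiberToSpecResidueField (s q)) (s.asFiber q)).1 htr
    intro x' he hs
    obtain ⟨b, rfl⟩ : x' ∈ Set.range (s.fiberι (s q)) := by rw [s.range_fiberι]; exact he
    have hs' : s.fiberι (s q) (s.asFiber q) ⤳ s.fiberι (s q) b := by rw [s.fiberι_asFiber]; exact hs
    have h2 := (s.fiberι (s q)).isEmbedding.isInducing.specializes_iff.1 hs'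
    have h3 := specializes_iff_mem_closure.1 h2
    rw [hcl.closure_eq] at h3
    rw [Set.mem_singleton_iff.1 h3, s.fiberι_asFiber]
  obtain ⟨T, i, hirr, _, _, ⟨q₀, hq₀⟩, _, _, _, hTη⟩ := Chevalley.exists_section s hξ hqcl
    fun x' hξx' _ _ => DimFormula.trdAt_le_of_valuationRing s hξx' hη
  haveI := hirr
  haveI : AlgebraicGeometry.IsIntegral T := isIntegral_of_irreducibleSpace_of_isReduced T
  obtain ⟨W, hW, hq₀W, -⟩ := exists_isAffineOpen_mem_and_subset (x := q₀) (U := ⊤) (Set.mem_univ _)
  haveI : Nonempty W := ⟨⟨q₀, hq₀W⟩⟩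
  let h : Spec Γ(T, W) ⟶ X := hW.fromSpec ≫ i
  let a : CommRingCat.of A ⟶ Γ(T, W) := Spec.preimage (h ≫ s)
  have ha : Spec.map a = h ≫ s := Spec.map_preimage _
  haveI : LocallyOfFiniteType (Spec.map a) := by
    rw [ha, Category.assoc]; infer_instance
  haveI : LocallyQuasiFinite (Spec.map a) := by
    rw [ha, Category.assoc]; infer_instance
  let D : Type u := Γ(T, W)
  let _ : CommRing D := inferInstanceAs (CommRing Γ(T, W))
  haveI : IsDomain D := inferInstanceAs (IsDomain Γ(T, W))
  algebraize [a.hom]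
  haveI : Algebra.FiniteType A D :=
    (HasRingHomProperty.Spec_iff (P := @LocallyOfFiniteType) (φ := a)).1 inferInstance
  haveI : Algebra.QuasiFinite A D :=
    (HasRingHomProperty.Spec_iff (P := @LocallyQuasiFinite) (φ := a)).1 inferInstance
  have hgen : hW.fromSpec (⟨⊥, Ideal.isPrime_bot⟩ : PrimeSpectrum Γ(T, W)) = genericPoint T :=
    (congrArg hW.fromSpec (genericPoint_eq_bot_of_affine Γ(T, W)).symm).trans
      (genericPoint_eq_of_isOpenImmersion hW.fromSpec)
  have hbot : (⊥ : Ideal Γ(T, W)).comap a.hom = ⊥ := by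
    have h1 : Spec.map a (⟨⊥, Ideal.isPrime_bot⟩ : PrimeSpectrum Γ(T, W)) =
        (⟨⊥, Ideal.isPrime_bot⟩ : PrimeSpectrum A) := by
      rw [ha, Scheme.Hom.comp_apply, Scheme.Hom.comp_apply, hgen, hTη, hη]
      exact genericPoint_eq_bot_of_affine (CommRingCat.of A)
    exact congrArg PrimeSpectrum.asIdeal h1
  let P := hW.primeIdealOf ⟨q₀, hq₀W⟩
  have hPq : h P = q := by
    rw [Scheme.Hom.comp_apply, hW.fromSpec_primeIdealOf, hq₀]
  have hP : P.asIdeal.comap a.hom = maximalIdeal A := by
    have h1 : Spec.map a P = closedPoint A := by rw [ha, Scheme.Hom.comp_apply, hPq, hqc]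
    exact congrArg PrimeSpectrum.asIdeal h1
  obtain ⟨B, _, _, _, φ, w, hloc, hfin, hw, hwP⟩ := exists_dvr_point (A := A) (D := D)
    ((RingHom.injective_iff_ker_eq_bot _).2 hbot) P.asIdeal hP
  haveI := hloc
  let v : Spec (CommRingCat.of B) ⟶ X :=
    Spec.map (CommRingCat.ofHom w : Γ(T, W) ⟶ CommRingCat.of B) ≫ h
  have hvs : v ≫ s = Spec.map (CommRingCat.ofHom φ) := by
    rw [Category.assoc, ← ha, ← Spec.map_comp]
    exact congrArg Spec.map (CommRingCat.hom_ext hw)
  have hvq : v (closedPoint B) = q := by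
    rw [Scheme.Hom.comp_apply, ← hPq]
    exact congrArg h (PrimeSpectrum.ext hwP)
  refine ⟨CommRingCat.of B, inferInstance, inferInstance, φ, hloc, v, hfin, hvs, ?_⟩
  obtain ⟨γ₁, h₁⟩ := exists_desc
    (Spec.map (CommRingCat.ofHom (IsLocalRing.ResidueField.map φ)) ≫ u₁) q (by
      rw [Scheme.Hom.comp_apply]
      exact congrArg u₁ (IsLocalRing.comap_closedPoint (IsLocalRing.ResidueField.map φ)))
  obtain ⟨γ₂, h₂⟩ := exists_desc (Spec.map (CommRingCat.ofHom (IsLocalRing.residue B)) ≫ v) q (by
      rw [Scheme.Hom.comp_apply, ← hvq]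
      exact congrArg v (IsLocalRing.comap_closedPoint (IsLocalRing.residue B)))
  suffices γ₁ = γ₂ by rw [h₁, h₂, this]
  have key : α ≫ γ₁ = α ≫ γ₂ := Spec.map_injective (by
    rw [Spec.map_comp, Spec.map_comp, hαm, ← Category.assoc, ← Category.assoc, ← h₁, ← h₂,
      Category.assoc, Category.assoc, hu, hvs, ← Spec.map_comp, ← Spec.map_comp]
    rfl)
  refine CommRingCat.hom_ext (RingHom.ext fun z => ?_)
  obtain ⟨c, rfl⟩ := hα z
  exact RingHom.congr_fun (congrArg CommRingCat.Hom.hom key) c

/-- EGA IV 14.4.9, the converse. -/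
theorem isUnivOpenAt_of_dvr_lifts {X Y : Scheme.{u}} [IsLocallyNoetherian Y] (f : X ⟶ Y)
    [LocallyOfFiniteType f] (x : X)
    (H : ∀ (A : Type u) [CommRing A] [IsDomain A] [IsDiscreteValuationRing A]
        [IsAdicComplete (IsLocalRing.maximalIdeal A) A] [IsAlgClosed (IsLocalRing.ResidueField A)]
        (g : Spec (CommRingCat.of A) ⟶ Y), g.base (IsLocalRing.closedPoint A) = f.base x →
        ∀ u₀ : Spec (CommRingCat.of (IsLocalRing.ResidueField A)) ⟶ X,
          u₀ ≫ f = Spec.map (CommRingCat.ofHom (IsLocalRing.residue A)) ≫ g → x ∈ Set.range u₀.base →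
          ∃ (B : CommRingCat.{u}) (_ : IsDomain B) (_ : IsDiscreteValuationRing B) (φ : A →+* B)
            (_ : IsLocalHom φ) (v : Spec B ⟶ X),
            φ.Finite ∧ v ≫ f = Spec.map (CommRingCat.ofHom φ) ≫ g ∧
            Spec.map (CommRingCat.ofHom (IsLocalRing.ResidueField.map φ)) ≫ u₀ =
              Spec.map (CommRingCat.ofHom (IsLocalRing.residue B)) ≫ v) :
    EGA43.IsUnivOpenAt f x := by
  refine (UnivOpen.isUnivOpenAt_iff_dvr f x).2 fun A₀ _ _ _ g hg x' hx' hs => ?_
  let e := (pullback f g).fromSpecResidueField x'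
  let g₀ : CommRingCat.of A₀ ⟶ (pullback f g).residueField x' := Spec.preimage (e ≫ pullback.snd f g)
  have hg₀ : Spec.map g₀ = e ≫ pullback.snd f g := Spec.map_preimage _
  have hker : RingHom.ker g₀.hom = maximalIdeal A₀ := by
    have h1 : Spec.map g₀ (⟨⊥, Ideal.isPrime_bot⟩ : PrimeSpectrum ((pullback f g).residueField x')) =
        closedPoint A₀ := by
      rw [hg₀, Scheme.Hom.comp_apply, Scheme.fromSpecResidueField_apply, hs]
    have h2 : (⊥ : Ideal ((pullback f g).residueField x')).comap g₀.hom = maximalIdeal A₀ :=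
      congrArg PrimeSpectrum.asIdeal h1
    rwa [← RingHom.ker_eq_comap_bot] at h2
  obtain ⟨C, _, _, _, _, _, φ₀, ι, hloc₀, hinj₀, hcomp⟩ := exists_completeDvr g₀.hom hker
  haveI := hloc₀
  let g' := Spec.map (CommRingCat.ofHom φ₀) ≫ g
  let u' : Spec (CommRingCat.of (ResidueField C)) ⟶ pullback f g :=
    Spec.map (CommRingCat.ofHom ι : (pullback f g).residueField x' ⟶ CommRingCat.of (ResidueField C)) ≫ e
  have hu'x : ∀ a, u' a = x' := fun a => by
    rw [Scheme.Hom.comp_apply]; exact Scheme.fromSpecResidueField_apply _ _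
  have hu's : u' ≫ pullback.snd f g =
      Spec.map (CommRingCat.ofHom (residue C)) ≫ Spec.map (CommRingCat.ofHom φ₀) := by
    rw [Category.assoc, ← hg₀, ← Spec.map_comp, ← Spec.map_comp]
    exact congrArg Spec.map (CommRingCat.hom_ext hcomp.symm)
  obtain ⟨B, _, _, φ, hloc, v, hfin, hvf, hres⟩ := H C g' (by
      show g' (closedPoint C) = f x
      rw [← hg, Scheme.Hom.comp_apply]
      exact congrArg g (IsLocalRing.comap_closedPoint φ₀))
    (u' ≫ pullback.fst f g)
    (by rw [Category.assoc, pullback.condition, ← Category.assoc, hu's, Category.assoc])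
    ⟨closedPoint _, by
      show (u' ≫ pullback.fst f g) _ = x
      rw [Scheme.Hom.comp_apply, hu'x, hx']⟩
  haveI := hloc
  let v' : Spec B ⟶ pullback f g :=
    pullback.lift v (Spec.map (CommRingCat.ofHom φ) ≫ Spec.map (CommRingCat.ofHom φ₀))
      (by rw [hvf, Category.assoc])
  have hcl : Spec.map (CommRingCat.ofHom (ResidueField.map φ)) ≫ u' =
      Spec.map (CommRingCat.ofHom (residue B)) ≫ v' := by
    apply pullback.hom_ext
    · exact (Category.assoc _ u' _).trans (hres.trans ((congrArg (Spec.map (CommRingCat.ofHom (residue B)) ≫ ·)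
        (pullback.lift_fst _ _ _).symm).trans (Category.assoc _ v' _).symm))
    · refine (Category.assoc _ u' _).trans ((congrArg (_ ≫ ·) hu's).trans ?_)
      refine Eq.trans ?_ (Category.assoc _ v' _).symm
      rw [pullback.lift_snd]
      simp only [← Spec.map_comp, Category.assoc]
      rfl
  have hcl' : v' (closedPoint B) = x' := by
    have h1 := congrArg (fun m : Spec (CommRingCat.of (ResidueField B)) ⟶ pullback f g =>
      m (closedPoint _)) hcl
    simp only [Scheme.Hom.comp_apply, hu'x] at h1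
    exact (h1.trans (congrArg v' (IsLocalRing.comap_closedPoint (residue B)))).symm
  let η : Spec B := (⟨⊥, Ideal.isPrime_bot⟩ : PrimeSpectrum B)
  refine ⟨v' η, hcl' ▸ ((PrimeSpectrum.le_iff_specializes η (closedPoint B)).1
    (bot_le : (⊥ : Ideal B) ≤ _)).map v'.continuous, fun hc => ?_⟩
  rw [← Scheme.Hom.comp_apply, pullback.lift_snd, Scheme.Hom.comp_apply] at hc
  have h3 : ((⊥ : Ideal B).comap φ).comap φ₀ = maximalIdeal A₀ := congrArg PrimeSpectrum.asIdeal hc
  have hφinj : Function.Injective φ := by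
    rw [RingHom.injective_iff_ker_eq_bot]
    by_contra hk
    haveI := (RingHom.ker_isPrime φ).isMaximal hk
    apply IsDiscreteValuationRing.not_a_field B
    algebraize [φ]
    haveI : Module.Finite C B := hfin
    haveI : (⊥ : Ideal B).IsMaximal := Ideal.isMaximal_of_isIntegral_of_isMaximal_comap (R := C) ⊥
      (by rw [RingHom.algebraMap_toAlgebra, ← RingHom.ker_eq_comap_bot]; infer_instance)
    exact (IsLocalRing.eq_maximalIdeal (I := (⊥ : Ideal B)) inferInstance).symm
  rw [Ideal.comap_bot_of_injective _ hφinj, Ideal.comap_bot_of_injective _ hinj₀] at h3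
  exact IsDiscreteValuationRing.not_a_field A₀ h3.symm

/-- EGA IV 14.4.9, the direct part. -/
theorem exists_lift_of_isUnivOpenAt {X Y : Scheme.{u}} (f : X ⟶ Y) [LocallyOfFiniteType f] {x : X}
    (hx : EGA43.IsUnivOpenAt f x) {A : Type u} [CommRing A] [IsDomain A] [IsDiscreteValuationRing A]
    [IsAdicComplete (maximalIdeal A) A] (g : Spec (CommRingCat.of A) ⟶ Y)
    (u₀ : Spec (CommRingCat.of (ResidueField A)) ⟶ X)
    (hu₀ : u₀ ≫ f = Spec.map (CommRingCat.ofHom (residue A)) ≫ g) (hxu : x ∈ Set.range u₀.base) :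
    ∃ (B : CommRingCat.{u}) (_ : IsDomain B) (_ : IsDiscreteValuationRing B) (φ : A →+* B)
      (_ : IsLocalHom φ) (v : Spec B ⟶ X),
      φ.Finite ∧ v ≫ f = Spec.map (CommRingCat.ofHom φ) ≫ g ∧
      Spec.map (CommRingCat.ofHom (IsLocalRing.ResidueField.map φ)) ≫ u₀ =
        Spec.map (CommRingCat.ofHom (IsLocalRing.residue B)) ≫ v := by
  let u₁ : Spec (CommRingCat.of (ResidueField A)) ⟶ pullback f g :=
    pullback.lift u₀ (Spec.map (CommRingCat.ofHom (residue A))) hu₀
  let q := u₁ (closedPoint (ResidueField A))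
  obtain ⟨a, ha⟩ := hxu
  have hq : pullback.fst f g q = x := by
    rw [← Scheme.Hom.comp_apply, pullback.lift_fst, ← ha]
    exact congrArg u₀ (@Subsingleton.elim (PrimeSpectrum (ResidueField A)) inferInstance _ _)
  obtain ⟨ξ, hξ, hη⟩ := UnivOpen.exists_generization_of_isUnivOpenAt f hx g hq
    (y' := genericPoint (Spec (CommRingCat.of A))) (genericPoint_specializes _)
  obtain ⟨B, hd, hv, φ, hloc, v, hfin, hvs, hres⟩ :=
    exists_dvr_lift (pullback.snd f g) u₁ (pullback.lift_snd _ _ _) hξ hη
  refine ⟨B, hd, hv, φ, hloc, v ≫ pullback.fst f g, hfin, ?_, ?_⟩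
  · rw [Category.assoc, pullback.condition, ← Category.assoc, hvs]
  · rw [← Category.assoc, ← hres, Category.assoc, pullback.lift_fst]

end Groth.Agent.EGA43.FiniteCrit
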