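import Groth.Agent.CAlgH.NagataComplete
import Groth.Agent.CAlgH.Nagata
import Groth.Agent.CAlgMisc2.LocalFinite
import Groth.Agent.EGA43.FiniteCrit.DvrExt
import Mathlib.RingTheory.ZariskisMainTheorem
import Mathlib.RingTheory.DiscreteValuationRing.TFAE
import Mathlib.FieldTheory.IntermediateField.Adjoin.Algebra
import Mathlib.RingTheory.Ideal.GoingUp

/-!
# Points with values in finite extensions of a complete discrete valuation ring
-/

set_option autoImplicit false
set_option linter.style.haveILetI false

universe u

namespace Groth.Agent.EGA43.FiniteCrit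

open IsLocalRing

/-- A quasi-finite dominating algebra over a complete discrete valuation ring has points with values
in finite extensions through each of its primes over the closed point. -/
theorem exists_dvr_point {A D : Type u} [CommRing A] [IsDomain A] [IsDiscreteValuationRing A]
    [IsAdicComplete (maximalIdeal A) A] [CommRing D] [IsDomain D] [Algebra A D]
    [Algebra.FiniteType A D] (hinj : Function.Injective (algebraMap A D)) (P : Ideal D) [P.IsPrime]
    (hP : P.comap (algebraMap A D) = maximalIdeal A) [Algebra.WeaklyQuasiFiniteAt A P] :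
    ∃ (B : Type u) (_ : CommRing B) (_ : IsDomain B) (_ : IsDiscreteValuationRing B) (φ : A →+* B)
      (w : D →+* B), IsLocalHom φ ∧ φ.Finite ∧ w.comp (algebraMap A D) = φ ∧
        (maximalIdeal B).comap w = P := by
  obtain ⟨r, hr, hbij⟩ := Algebra.ZariskisMainProperty.of_finiteType_of_weaklyQuasiFiniteAt (R := A) P
  let C := integralClosure A D
  let K := FractionRing A
  let L := FractionRing D
  haveI : FaithfulSMul A D := (faithfulSMul_iff_algebraMap_injective A D).2 hinj
  have hAL : Function.Injective (algebraMap A L) := by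
    rw [IsScalarTower.algebraMap_eq A D L]
    exact (IsFractionRing.injective D L).comp hinj
  haveI : FaithfulSMul A L := (faithfulSMul_iff_algebraMap_injective A L).2 hAL
  let _ : Algebra K L := FractionRing.liftAlgebra A L
  let e := RingEquiv.ofBijective _ hbij
  have hr0 : C.val.toRingHom r ≠ 0 := fun h => hr (by rw [show (r : D) = 0 from h]; exact zero_mem P)
  have he : ∀ z : C, e (algebraMap C (Localization.Away r) z) = algebraMap D _ (C.val.toRingHom z) :=
    fun z => by
      show Localization.awayMap C.val.toRingHom r _ = _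
      exact IsLocalization.map_eq _ z
  -- every element is a quotient of an integral element by a power of `r`
  have hsurj : ∀ d : D, ∃ (c : C) (m : ℕ), d * C.val.toRingHom (r ^ m) = C.val.toRingHom c := by
    intro d
    obtain ⟨⟨c, _, m, rfl⟩, hc⟩ := IsLocalization.surj (Submonoid.powers r) (e.symm (algebraMap D _ d))
    have h2 := congrArg e hc
    rw [map_mul, e.apply_symm_apply, he, he, ← map_mul] at h2
    exact ⟨c, m, IsLocalization.injective (Localization.Away (C.val.toRingHom r))
      (powers_le_nonZeroDivisors_of_noZeroDivisors hr0) h2⟩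
  have halgC : ∀ c : C, IsAlgebraic K (algebraMap D L (c : D)) := fun c =>
    ((c.2 : IsIntegral A (c : D)).map (IsScalarTower.toAlgHom A D L)).tower_top.isAlgebraic
  have halgD : ∀ d : D, IsAlgebraic K (algebraMap D L d) := by
    intro d
    obtain ⟨c, m, h⟩ := hsurj d
    have hpow : algebraMap D L ((r : D) ^ m) ≠ 0 :=
      (map_ne_zero_iff _ (IsFractionRing.injective D L)).2 (pow_ne_zero m hr0)
    have h' : algebraMap D L d = algebraMap D L (c : D) * (algebraMap D L ((r : D) ^ m))⁻¹ := by
      rw [show (c : D) = d * (r : D) ^ m from h.symm.trans (congrArg (d * ·) (map_pow C.val.toRingHom r m)),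
        map_mul, mul_assoc, mul_inv_cancel₀ hpow, mul_one]
    rw [h']
    exact (halgC c).mul ((halgC (r ^ m)).inv)
  haveI : Algebra.IsAlgebraic K L := ⟨fun z => by
    obtain ⟨a, b, -, rfl⟩ := IsFractionRing.div_surjective D z
    rw [div_eq_mul_inv]
    exact (halgD a).mul (halgD b).inv⟩
  haveI : Algebra.EssFiniteType A L := Algebra.EssFiniteType.comp A D L
  haveI : Algebra.EssFiniteType K L := Algebra.EssFiniteType.of_comp A K L
  haveI : FiniteDimensional K L := Algebra.finite_of_essFiniteType_of_isAlgebraic
  let B := integralClosure A L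
  haveI : Module.Finite A B := CAlgH.isN2_apply (CAlgH.isN2_of_complete_local_domain A) K L
  haveI : IsNoetherianRing B := IsNoetherianRing.of_finite A B
  haveI : IsLocalRing B := CAlgMisc2.isLocalRing_of_finite_domain_complete (A := A) (B := B)
  haveI : IsIntegrallyClosed B := integralClosure.isIntegrallyClosedOfFiniteExtension K
  let φ : A →+* B := algebraMap A B
  have hφinj : Function.Injective φ := fun a b h => hAL (congrArg Subtype.val h)
  haveI : FaithfulSMul A B := (faithfulSMul_iff_algebraMap_injective A B).2 hφinj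
  have hmaxB : (maximalIdeal B).comap φ = maximalIdeal A := by
    haveI : ((maximalIdeal B).comap φ).IsMaximal :=
      Ideal.isMaximal_comap_of_isIntegral_of_isMaximal (R := A) (maximalIdeal B)
    exact IsLocalRing.eq_maximalIdeal inferInstance
  have hnf : ¬ IsField B := fun h => by
    rw [IsLocalRing.isField_iff_maximalIdeal_eq.1 h,
      Ideal.comap_bot_of_injective _ hφinj] at hmaxB
    exact IsDiscreteValuationRing.not_a_field A hmaxB.symm
  haveI : IsDiscreteValuationRing B := ((IsDiscreteValuationRing.TFAE B hnf).out 0 3 :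
      IsDiscreteValuationRing B ↔ IsIntegrallyClosed B ∧ ∃! Q : Ideal B, Q ≠ ⊥ ∧ Q.IsPrime).2
    ⟨inferInstance, maximalIdeal B, ⟨fun h => hnf (IsLocalRing.isField_iff_maximalIdeal_eq.2 h),
      inferInstance⟩, fun Q ⟨hQ0, hQ⟩ => by
      haveI := hQ
      have h1 : Q.comap φ ≠ ⊥ := fun h => hQ0 (Ideal.eq_bot_of_comap_eq_bot (R := A) h)
      haveI : (Q.comap φ).IsMaximal := (Ideal.IsPrime.comap φ).isMaximal h1
      exact IsLocalRing.eq_maximalIdeal (Ideal.isMaximal_of_isIntegral_of_isMaximal_comap (R := A) Q inferInstance)⟩
  -- the integral elements of `D` land in `B`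
  let ι : C →+* B := (((IsScalarTower.toAlgHom A D L).comp C.val).codRestrict B fun c =>
    (c.2 : IsIntegral A (c : D)).map (IsScalarTower.toAlgHom A D L)).toRingHom
  have hιinj : Function.Injective ι := fun a b h =>
    Subtype.ext (IsFractionRing.injective D L (congrArg Subtype.val h))
  let PC := P.comap C.val.toRingHom
  have hιm : (maximalIdeal B).comap ι = PC := by
    let _ : Algebra C B := ι.toAlgebra
    haveI : IsScalarTower A C B := .of_algebraMap_eq fun a =>
      Subtype.ext (IsScalarTower.algebraMap_apply A D L a)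
    haveI : Algebra.IsIntegral C B := Algebra.IsIntegral.tower_top A
    obtain ⟨Q, hQ1, hQ2, hQ3⟩ := Ideal.exists_ideal_over_prime_of_isIntegral PC (⊥ : Ideal B)
      (by rw [Ideal.comap_bot_of_injective _ (RingHom.algebraMap_toAlgebra ι ▸ hιinj)]; exact bot_le)
    haveI := hQ2
    haveI : PC.IsMaximal := by
      haveI : (PC.comap (algebraMap A C)).IsMaximal := by
        have : PC.comap (algebraMap A C) = maximalIdeal A := by
          rw [← hP, Ideal.comap_comap]; rfl
        rw [this]; infer_instance
      exact Ideal.isMaximal_of_isIntegral_of_isMaximal_comap (R := A) PC inferInstance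
    haveI : Q.IsMaximal :=
      Ideal.isMaximal_of_isIntegral_of_isMaximal_comap (R := C) Q (by rw [hQ3]; infer_instance)
    rw [← hQ3, IsLocalRing.eq_maximalIdeal (I := Q) inferInstance, RingHom.algebraMap_toAlgebra]
  have hru : IsUnit (ι r) := IsLocalRing.notMem_maximalIdeal.1 fun h => hr (show r ∈ PC from hιm.le h)
  let ρ : Localization.Away r →+* B := IsLocalization.Away.lift r hru
  let w : D →+* B :=
    ρ.comp ((e.symm.toRingHom).comp (algebraMap D (Localization.Away (C.val.toRingHom r))))
  have hw : ∀ c : C, w (C.val.toRingHom c) = ι c := fun c => by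
    show ρ (e.symm (algebraMap D _ (C.val.toRingHom c))) = _
    rw [← he, e.symm_apply_apply]
    exact IsLocalization.Away.lift_eq r _ c
  refine ⟨B, inferInstance, inferInstance, inferInstance, φ, w, ?_, RingHom.finite_algebraMap.2 ‹_›,
    RingHom.ext fun a => ?_, ?_⟩
  · exact ((IsLocalRing.local_hom_TFAE φ).out 0 4).2 hmaxB
  · show w (C.val.toRingHom (algebraMap A C a)) = _
    rw [hw]
    exact Subtype.ext (IsScalarTower.algebraMap_apply A D L a).symm
  · ext d
    obtain ⟨c, m, h⟩ := hsurj d
    have h' := congrArg w h
    rw [map_mul, hw, hw, map_pow] at h'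
    have hcd : (c : D) ∈ P ↔ d ∈ P := by
      rw [show (c : D) = d * C.val.toRingHom (r ^ m) from h.symm,
        (‹P.IsPrime› : P.IsPrime).mul_mem_iff_mem_or_mem,
        map_pow]
      exact ⟨fun h => h.resolve_right fun h' => hr (Ideal.IsPrime.mem_of_pow_mem ‹_› m h'), Or.inl⟩
    calc d ∈ (maximalIdeal B).comap w ↔ ι c ∈ maximalIdeal B := by
            rw [Ideal.mem_comap, ← h', (Ideal.IsPrime.mul_mem_iff_mem_or_mem inferInstance)]
            exact ⟨Or.inl, fun h => h.resolve_right fun h' =>
              (IsLocalRing.mem_maximalIdeal _).1 (Ideal.IsPrime.mem_of_pow_mem inferInstance m h') hru⟩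
      _ ↔ (c : D) ∈ P := SetLike.ext_iff.1 hιm c
      _ ↔ d ∈ P := hcd

end Groth.Agent.EGA43.FiniteCrit
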