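import Groth.Agent.EGA43.DimFormula.UnivDim
import Groth.Agent.EGA43.Chevalley.OpenDim
import Groth.Agent.AssSch12.Push
import Mathlib.RingTheory.Adjoin.FG
import Mathlib.AlgebraicGeometry.Morphisms.Finite

/-!
# Branches over an integral extension as limits of branches over finite extensions
-/

set_option autoImplicit false
set_option backward.isDefEq.respectTransparency false
set_option linter.style.haveILetI false

universe u

open CategoryTheory CategoryTheory.Limits AlgebraicGeometry TopologicalSpace TensorProduct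

namespace Groth.Agent.EGA43.FiniteCrit

open Groth.Agent

variable {A : Type u} [CommRing A] (R : Type u) [CommRing R] [Algebra A R]

theorem map_map_inclusion {O : Type u} [CommRing O] [Algebra A O] {B B' : Subalgebra A O} (h : B ≤ B')
    (a : R ⊗[A] B) : Algebra.TensorProduct.map (AlgHom.id A R) B'.val
      (Algebra.TensorProduct.map (AlgHom.id A R) (Subalgebra.inclusion h) a) =
      Algebra.TensorProduct.map (AlgHom.id A R) B.val a := by
  induction a using TensorProduct.induction_on with
  | zero => simp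
  | tmul r o => rfl
  | add a b ha hb => simp only [map_add, ha, hb]

theorem exists_fg_mem_range (O : Type u) [CommRing O] [Algebra A O] (t : R ⊗[A] O) :
    ∃ B : Subalgebra A O, B.FG ∧
      t ∈ (Algebra.TensorProduct.map (AlgHom.id A R) B.val).range := by
  induction t using TensorProduct.induction_on with
  | zero => exact ⟨⊥, Subalgebra.fg_bot, zero_mem _⟩
  | tmul r o =>
    refine ⟨Algebra.adjoin A {o}, ⟨{o}, by simp⟩, ?_⟩
    exact ⟨r ⊗ₜ ⟨o, Algebra.self_mem_adjoin_singleton A o⟩, rfl⟩
  | add a b ha hb =>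
    obtain ⟨B, hB, a, rfl⟩ := ha
    obtain ⟨B', hB', b, rfl⟩ := hb
    refine ⟨B ⊔ B', hB.sup hB', add_mem ?_ ?_⟩
    · exact ⟨Algebra.TensorProduct.map (AlgHom.id A R) (Subalgebra.inclusion le_sup_left) a,
        map_map_inclusion R le_sup_left a⟩
    · exact ⟨Algebra.TensorProduct.map (AlgHom.id A R) (Subalgebra.inclusion le_sup_right) b,
        map_map_inclusion R le_sup_right b⟩

/-- The structure map of a spectrum. -/
noncomputable abbrev str (A : Type u) [CommRing A] (B : Type u) [CommRing B] [Algebra A B] :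
    Spec (CommRingCat.of B) ⟶ Spec (CommRingCat.of A) :=
  Spec.map (CommRingCat.ofHom (algebraMap A B))

variable {R}

theorem str_comp (B : Type u) [CommRing B] [Algebra A B] {O : Type u} [CommRing O] [Algebra A O]
    (φ : B →ₐ[A] O) : Spec.map (CommRingCat.ofHom φ.toRingHom) ≫ str A B = str A O := by
  rw [← Spec.map_comp]
  congr 1
  exact CommRingCat.hom_ext φ.comp_algebraMap

/-- The projection to a stage. -/
noncomputable abbrev proj {O : Type u} [CommRing O] [Algebra A O] (B : Subalgebra A O) :
    pullback (str A R) (str A O) ⟶ pullback (str A R) (str A B) :=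
  pullback.lift (pullback.fst _ _)
    (pullback.snd _ _ ≫ Spec.map (CommRingCat.ofHom B.val.toRingHom))
    (by rw [Category.assoc, str_comp, pullback.condition])

theorem proj_comp {O : Type u} [CommRing O] [Algebra A O] {B B' : Subalgebra A O} (h : B ≤ B') :
    ∃ m : pullback (str A R) (str A B') ⟶ pullback (str A R) (str A B), proj B' ≫ m = proj B := by
  refine ⟨pullback.lift (pullback.fst _ _)
    (pullback.snd _ _ ≫ Spec.map (CommRingCat.ofHom (Subalgebra.inclusion h).toRingHom))
    (by rw [Category.assoc, str_comp, pullback.condition]), ?_⟩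
  apply pullback.hom_ext
  · simp [proj]
  · simp only [proj, Category.assoc, pullback.lift_snd, pullback.lift_snd_assoc]
    rw [← Spec.map_comp]
    rfl

/-- Specialisation in the limit is tested at the finite stages. -/
theorem specializes_of_forall_proj {O : Type u} [CommRing O] [Algebra A O]
    (a b : ↥(pullback (str A R) (str A O)))
    (h : ∀ B : Subalgebra A O, B.FG → proj B a ⤳ proj B b) : a ⤳ b := by
  let e := pullbackSpecIso A R O
  obtain ⟨a', rfl⟩ : ∃ a', e.inv a' = a :=
    ⟨e.hom a, by rw [← Scheme.Hom.comp_apply, e.hom_inv_id]; rfl⟩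
  obtain ⟨b', rfl⟩ : ∃ b', e.inv b' = b :=
    ⟨e.hom b, by rw [← Scheme.Hom.comp_apply, e.hom_inv_id]; rfl⟩
  refine Specializes.map ?_ e.inv.continuous
  refine (PrimeSpectrum.le_iff_specializes a' b').1 fun t ht => ?_
  obtain ⟨B, hB, t, rfl⟩ := exists_fg_mem_range R O t
  let μ : R ⊗[A] B →ₐ[A] R ⊗[A] O := Algebra.TensorProduct.map (AlgHom.id A R) B.val
  have hc : e.inv ≫ proj B = Spec.map (CommRingCat.ofHom μ.toRingHom) ≫ (pullbackSpecIso A R B).inv := by
    apply pullback.hom_ext
    · simp only [e, proj, Category.assoc, pullback.lift_fst, pullbackSpecIso_inv_fst]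
      rw [← Spec.map_comp]
      congr 1
    · simp only [e, proj, Category.assoc, pullback.lift_snd, pullbackSpecIso_inv_snd,
        pullbackSpecIso_inv_snd_assoc]
      rw [← Spec.map_comp, ← Spec.map_comp]
      congr 1
  have h1 := h B hB
  rw [← Scheme.Hom.comp_apply, ← Scheme.Hom.comp_apply, hc, Scheme.Hom.comp_apply,
    Scheme.Hom.comp_apply, (pullbackSpecIso A R B).inv.isOpenEmbedding.isInducing.specializes_iff] at h1
  exact (PrimeSpectrum.le_iff_specializes (PrimeSpectrum.comap μ.toRingHom a')
    (PrimeSpectrum.comap μ.toRingHom b')).2 h1 ht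

theorem eq_of_specializes_integral {X Y : Scheme.{u}} (f : X ⟶ Y) [IsIntegralHom f] {a b : X}
    (hab : a ⤳ b) (h : f a = f b) : a = b :=
  (AssSch12.eq_of_specializes_of_isIntegralHom f hab h.symm).symm

theorem finite_maximal_fibre {X Y : Scheme.{u}} (f : X ⟶ Y) [LocallyOfFiniteType f] [QuasiCompact f]
    (y : Y) : {x : X | f x = y ∧ ∀ w, w ⤳ x → f w = y → w = x}.Finite := by
  haveI : LocallyOfFiniteType (f.fiberToSpecResidueField y) :=
    inferInstanceAs (LocallyOfFiniteType (pullback.snd f (Y.fromSpecResidueField y)))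
  haveI : IsLocallyNoetherian (f.fiber y) :=
    LocallyOfFiniteType.isLocallyNoetherian (f.fiberToSpecResidueField y)
  haveI : IsNoetherian (f.fiber y) := { }
  have hfin := TopologicalSpace.NoetherianSpace.finite_irreducibleComponents (α := ↥(f.fiber y))
  have hmax : {z : ↥(f.fiber y) | ∀ w, w ⤳ z → w = z}.Finite := by
    refine Set.Finite.of_finite_image (f := fun z => closure ({z} : Set ↥(f.fiber y))) (hfin.subset ?_) ?_
    · rintro _ ⟨z, hz, rfl⟩
      obtain ⟨η, hη, W, hW, hgen⟩ := FlatMorWeight.exists_isMaximalPt_specializes z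
      obtain rfl := hz η hη
      show closure {η} ∈ _
      rw [hgen.def]
      exact hW
    · intro a _ b _ hab
      exact IsGenericPoint.eq (isGenericPoint_def.2 hab) (isGenericPoint_def.2 rfl)
  refine (hmax.image (f.fiberι y)).subset ?_
  rintro x ⟨hx, hxm⟩
  obtain ⟨z, rfl⟩ : x ∈ Set.range (f.fiberι y) := by rw [f.range_fiberι]; exact hx
  refine ⟨z, fun w hw => (f.fiberι y).isEmbedding.injective
    (hxm _ (hw.map (f.fiberι y).continuous) ?_), rfl⟩
  exact (f.range_fiberι y).le ⟨w, rfl⟩

/-- At every point over `x` of an integral base change, a branch through it dominates with at least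
the dimension of the fibre, if all finite base changes are open over `x`. -/
theorem exists_branch [IsNoetherianRing A] [Algebra.FiniteType A R] (x : ↥(Spec (CommRingCat.of R)))
    (hmax : ∀ w, w ⤳ x → str A R w = str A R x → w = x)
    (H : ∀ (Y' : Scheme.{u}) (g : Y' ⟶ Spec (CommRingCat.of A)) [IsFinite g]
      (x' : ↥(pullback (str A R) g)), pullback.fst (str A R) g x' = x →
        EGA43.IsOpenAt (pullback.snd (str A R) g).base x')
    (O : Type u) [CommRing O] [IsDomain O] [Algebra A O] [Algebra.IsIntegral A O]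
    (p : ↥(pullback (str A R) (str A O))) (hp : pullback.fst (str A R) (str A O) p = x) :
    (∀ w, w ⤳ p → pullback.snd (str A R) (str A O) w = pullback.snd (str A R) (str A O) p → w = p) ∧
    ∃ ζ, ζ ⤳ p ∧ pullback.snd (str A R) (str A O) ζ = genericPoint (Spec (CommRingCat.of O)) ∧
      DimFormula.trdAt (pullback.snd (str A R) (str A O)) p ≤
        DimFormula.trdAt (pullback.snd (str A R) (str A O)) ζ := by
  let s := str A R
  let wO := str A O
  let sO := pullback.snd s wO
  haveI : LocallyOfFiniteType s := (HasRingHomProperty.Spec_iff (P := @LocallyOfFiniteType)).2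
    (RingHom.finiteType_algebraMap.2 ‹_›)
  haveI : IsIntegralHom wO := IsIntegralHom.SpecMap_iff.2 (algebraMap_isIntegral_iff.2 ‹_›)
  let η := genericPoint (Spec (CommRingCat.of O))
  have hxy : ∀ {T : Scheme.{u}} (g : T ⟶ Spec (CommRingCat.of A)) (a : ↥(pullback s g)),
      s (pullback.fst s g a) = g (pullback.snd s g a) := fun g a => by
    rw [← Scheme.Hom.comp_apply, pullback.condition, Scheme.Hom.comp_apply]
  have hpmax : ∀ w, w ⤳ p → sO w = sO p → w = p := fun w hw he => by
    refine eq_of_specializes_integral (pullback.fst s wO) hw ?_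
    refine (hmax _ (hp ▸ hw.map (pullback.fst s wO).continuous) ?_).trans hp.symm
    rw [← hp, hxy, hxy]
    exact congrArg wO he
  refine ⟨hpmax, ?_⟩
  obtain ⟨hdp, -⟩ := DimFormula.trdAt_pullback_of_maximal s wO p hpmax
  let d := DimFormula.trdAt sO p
  let F : Set ↥(pullback s wO) :=
    {z | (sO z = η ∧ ∀ w, w ⤳ z → sO w = η → w = z) ∧ d ≤ DimFormula.trdAt sO z}
  haveI : QuasiCompact sO := inferInstance
  have hF : F.Finite := (finite_maximal_fibre sO η).subset fun z hz => hz.1
  have key : ∀ B : Subalgebra A O, B.FG → ∃ ζ ∈ F, proj B ζ ⤳ proj B p := by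
    intro B hB
    haveI : Algebra.FiniteType A B := (Subalgebra.fg_iff_finiteType B).1 hB
    haveI : Algebra.IsIntegral A B := Algebra.IsIntegral.of_injective B.val Subtype.val_injective
    haveI : Module.Finite A B := Algebra.IsIntegral.finite
    haveI : IsNoetherianRing B := IsNoetherianRing.of_finite A B
    let g := str A B
    haveI : IsFinite g := (IsFinite.SpecMap_iff _).2 (RingHom.finite_algebraMap.2 ‹_›)
    let b : Spec (CommRingCat.of O) ⟶ Spec (CommRingCat.of B) :=
      Spec.map (CommRingCat.ofHom B.val.toRingHom)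
    let sB := pullback.snd s g
    let π := proj (R := R) B
    have hπ1 : π ≫ pullback.fst s g = pullback.fst s wO := pullback.lift_fst _ _ _
    have hπ2 : π ≫ sB = sO ≫ b := pullback.lift_snd _ _ _
    have hfst : pullback.fst s g (π p) = x := by rw [← Scheme.Hom.comp_apply, hπ1, hp]
    have hBmax : ∀ w, w ⤳ π p → sB w = sB (π p) → w = π p := fun w hw he => by
      refine eq_of_specializes_integral (pullback.fst s g) hw ?_
      refine (hmax _ (hfst ▸ hw.map (pullback.fst s g).continuous) ?_).trans hfst.symm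
      rw [← hfst, hxy, hxy]
      exact congrArg g he
    obtain ⟨z, hz, hzη, hd⟩ := Chevalley.exists_generization_trdegHom_le sB (π p) hBmax
      (fun y' hy' => H8ProCons.exists_generization_of_isOpenAt sB (H _ g (π p) hfst) hy')
      (η := genericPoint (Spec (CommRingCat.of B))) (genericPoint_specializes _)
    obtain ⟨z₁, hz₁, hz₁f, hz₁max⟩ := Chevalley.exists_maximal_in_fibre sB z
    have hbη : b η = genericPoint (Spec (CommRingCat.of B)) := by
      rw [show η = (⟨⊥, Ideal.isPrime_bot⟩ : PrimeSpectrum O) from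
          genericPoint_eq_bot_of_affine (CommRingCat.of O),
        genericPoint_eq_bot_of_affine (CommRingCat.of B)]
      exact PrimeSpectrum.ext (Ideal.comap_bot_of_injective _ Subtype.val_injective)
    -- lift to the limit
    let sq : IsPullback π sO sB b := by
      refine IsPullback.of_right ?_ hπ2 (IsPullback.of_hasPullback s g)
      rw [hπ1, str_comp]
      exact IsPullback.of_hasPullback s wO
    obtain ⟨a, ha1, ha2⟩ := Scheme.Pullback.exists_preimage_pullback (f := sB) (g := b) z₁ η
      (hz₁f.trans (hzη.trans hbη.symm))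
    let ζ₀ := sq.isoPullback.inv a
    have hζ₀π : π ζ₀ = z₁ := by rw [← Scheme.Hom.comp_apply, sq.isoPullback_inv_fst, ha1]
    have hζ₀s : sO ζ₀ = η := by rw [← Scheme.Hom.comp_apply, sq.isoPullback_inv_snd, ha2]
    obtain ⟨ζ, hζ, hζf, hζmax⟩ := Chevalley.exists_maximal_in_fibre sO ζ₀
    have hζη : sO ζ = η := hζf.trans hζ₀s
    have hζπ : π ζ = z₁ := by
      refine hz₁max _ (hζ₀π ▸ hζ.map π.continuous) ?_
      rw [← Scheme.Hom.comp_apply, hπ2, Scheme.Hom.comp_apply, hζη, hbη]
      exact hzη.symm
    refine ⟨ζ, ⟨⟨hζη, fun w hw he => hζmax w hw (he.trans hζ₀s.symm)⟩, ?_⟩, ?_⟩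
    · obtain ⟨e1, -⟩ := DimFormula.trdAt_pullback_of_maximal s wO ζ
        fun w hw he => hζmax w hw (he.trans hζf)
      obtain ⟨e2, -⟩ := DimFormula.trdAt_pullback_of_maximal s g z₁
        fun w hw he => hz₁max w hw (he.trans hz₁f)
      obtain ⟨e3, -⟩ := DimFormula.trdAt_pullback_of_maximal s g (π p) hBmax
      have e4 := Chevalley.trdegHom_le_of_specializes sB hz₁ hz₁f
      have hζ1 : pullback.fst s wO ζ = pullback.fst s g z₁ := by
        rw [← hζπ, ← Scheme.Hom.comp_apply, hπ1]
      show DimFormula.trdAt sO p ≤ DimFormula.trdAt sO ζ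
      unfold DimFormula.trdAt at e1 e2 e3 hdp ⊢
      rw [hdp, hp, ← hfst, ← e3, e1, hζ1, ← e2]
      exact hd.trans e4
    · show π ζ ⤳ π p
      exact hζπ ▸ hz₁.trans hz
  suffices h : ∃ ζ ∈ F, ∀ B : Subalgebra A O, B.FG → proj B ζ ⤳ proj B p by
    obtain ⟨ζ, hζF, hζ⟩ := h
    exact ⟨ζ, specializes_of_forall_proj ζ p hζ, hζF.1.1, hζF.2⟩
  by_contra hno
  push Not at hno
  choose! Bz hBz hBz' using hno
  let B₀ := hF.toFinset.sup Bz
  have hB₀ : B₀.FG :=
    Finset.sup_induction Subalgebra.fg_bot (fun a ha b hb => ha.sup hb)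
      fun z hz => hBz z (hF.mem_toFinset.1 hz)
  obtain ⟨ζ, hζF, hζ⟩ := key B₀ hB₀
  obtain ⟨m, hm⟩ := proj_comp (R := R) (Finset.le_sup (f := Bz) (hF.mem_toFinset.2 hζF))
  refine hBz' ζ hζF ?_
  rw [← hm, Scheme.Hom.comp_apply, Scheme.Hom.comp_apply]
  exact hζ.map m.continuous

end Groth.Agent.EGA43.FiniteCrit
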